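/-
Project TB (helper25): groups of Ree type are Ree groups (S1149).  Definitions and step statements only.
-/
import Mathlib
import Cfsg.Prelude.Def_LieTwisted

set_option autoImplicit false

open Subgroup

namespace CL.TB

universe u v

/-! ### Group side -/

/-- `F` is a field with `3 ^ n` elements, `n` odd, `n ≥ 3`. -/
structure FF (F : Type) [Field F] [Fintype F] (n : ℕ) : Prop where
  odd : Odd n
  ge : 3 ≤ n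
  card : Fintype.card F = 3 ^ n

/-- The split BN-pair of rank one, unbundled; `B = U ⊔ H`. -/
structure BN {G : Type*} [Group G] (n : ℕ) (U H : Subgroup G) (w : G) : Prop where
  odd : Odd n
  cardU : Nat.card U = (3 ^ n) ^ 3
  cardH : Nat.card H = 3 ^ n - 1
  cyc : IsCyclic H
  norm : ∀ h ∈ H, ∀ u ∈ U, h * u * h⁻¹ ∈ U
  disj : U ⊓ H = ⊥
  wH : ∀ h ∈ H, w * h * w⁻¹ ∈ H
  ww : w * w ∈ H
  wB : w ∉ U ⊔ H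
  dec : ∀ g : G, g ∈ U ⊔ H ∨ ∃ u ∈ U, ∃ b ∈ U ⊔ H, g = u * w * b
  uniq : ∀ u ∈ U, w⁻¹ * u * w ∈ U ⊔ H → u = 1
  fpf : ∀ h ∈ H, h ≠ 1 → Odd (orderOf h) → ∀ u ∈ U, h * u = u * h → u = 1
  conj : ∀ i j : G, orderOf i = 2 → orderOf j = 2 → ∃ g : G, g * i * g⁻¹ = j

/-- The point `u w B` of `G ⧸ B` (the remaining point is `∞ = ((1 : G) : G ⧸ B)`). -/
def pt {G : Type*} [Group G] (U H : Subgroup G) (w u : G) : G ⧸ (U ⊔ H) := ((u * w : G) : G ⧸ (U ⊔ H))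

open Classical in
/-- `w • pt u = pt (tau u)` for `1 ≠ u ∈ U`; `tau 1 = 1`. -/
noncomputable def tau {G : Type*} [Group G] (U H : Subgroup G) (w u : G) : G :=
  if h : ∃ v ∈ U, w • pt U H w u = pt U H w v then h.choose else 1

/-- The involution `a ∈ H` and the subgroup `L₂(q)` of its centraliser. -/
structure SL {G : Type*} [Group G] {F : Type} [Field F] (n : ℕ) (U H : Subgroup G) (w a : G)
    (y dg : F → G) : Prop where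
  a_mem : a ∈ H
  a_ne : a ≠ 1
  a_sq : a * a = 1
  y_add : ∀ s t, y (s + t) = y s * y t
  y_inj : ∀ s, y s = 1 → s = 0
  y_mem : ∀ u : G, (u ∈ U ∧ a * u = u * a) ↔ ∃ s, y s = u
  dg_mem : ∀ ρ, ρ ≠ 0 → dg ρ ∈ H
  dg_mul : ∀ ρ ρ', ρ ≠ 0 → ρ' ≠ 0 → dg (ρ * ρ') = dg ρ * dg ρ'
  dg_neg : dg (-1) = 1
  dg_y : ∀ ρ s, ρ ≠ 0 → dg ρ * y s * (dg ρ)⁻¹ = y (ρ ^ 2 * s)
  H_gen : ∀ g ∈ H, ∃ ρ, ρ ≠ 0 ∧ (g = dg ρ ∨ g = a * dg ρ)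
  w_sq : w * w = 1
  w_inv : ∀ g ∈ H, w * g * w = g⁻¹
  w_y : ∀ s, s ≠ 0 → w * y s * w = y (-s⁻¹) * dg s⁻¹ * w * y (-s⁻¹)
  cardC : Nat.card (centralizer ({a} : Set G)) = 3 ^ n * ((3 ^ n) ^ 2 - 1)

/-- Point stabilisers in `C(a)` of the points outside the block `Fix a`. -/
structure Fx {G : Type*} [Group G] (U H : Subgroup G) (w a : G) : Prop where
  ex : ∀ u ∈ U, a * u ≠ u * a → ∃ j : G, j * a = a * j ∧ j * j = 1 ∧ j ≠ 1 ∧ j • pt U H w u = pt U H w u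
  un : ∀ u ∈ U, a * u ≠ u * a → ∀ g g' : G, g * a = a * g → g' * a = a * g' → g ≠ 1 → g' ≠ 1 →
    g • pt U H w u = pt U H w u → g' • pt U H w u = pt U H w u → g = g'

/-- The data: torus `h`, the subgroups `Y`, `Z`, the coordinate `rr` on `U / YZ`, and the characters. -/
structure Dat (G : Type*) [Group G] (F : Type) where
  U : Subgroup G
  H : Subgroup G
  w : G
  h : F → G
  y : F → G
  z : F → G
  rr : G → F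
  η : F → F
  χY : F → F
  χZ : F → F

variable {G : Type*} [Group G] {F : Type} [Field F]

/-- `τ` for the data `D` -/
noncomputable def Dat.τ (D : Dat G F) (u : G) : G := tau D.U D.H D.w u

/-- points for the data `D` -/
def Dat.P (D : Dat G F) (u : G) : G ⧸ (D.U ⊔ D.H) := pt D.U D.H D.w u

/-- `F(s) = τ (y s * z 1)` -/
noncomputable def Dat.Fs (D : Dat G F) (s : F) : G := D.τ (D.y s * D.z 1)

/-- the section `x r = h r * f * (h r)⁻¹`, `x 0 = 1` -/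
noncomputable def Dat.x (D : Dat G F) (f : G) (r : F) : G :=
  open Classical in if r = 0 then 1 else D.h r * f * (D.h r)⁻¹

structure Pre (n : ℕ) (D : Dat G F) : Prop where
  bn : BN n D.U D.H D.w
  fx : Fx D.U D.H D.w (D.h (-1))
  h_mul : ∀ κ κ', κ ≠ 0 → κ' ≠ 0 → D.h (κ * κ') = D.h κ * D.h κ'
  h_inj : ∀ κ, κ ≠ 0 → D.h κ = 1 → κ = 1
  h_mem : ∀ κ, κ ≠ 0 → D.h κ ∈ D.H
  h_surj : ∀ g ∈ D.H, ∃ κ, κ ≠ 0 ∧ D.h κ = g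
  y_add : ∀ s t, D.y (s + t) = D.y s * D.y t
  z_add : ∀ s t, D.z (s + t) = D.z s * D.z t
  y_mem : ∀ u : G, (u ∈ D.U ∧ D.h (-1) * u = u * D.h (-1)) ↔ ∃ s, D.y s = u
  z_mem : ∀ t, D.z t ∈ D.U
  z_comm : ∀ t, ∀ u ∈ D.U, D.z t * u = u * D.z t
  yz_inj : ∀ s t, D.y s * D.z t = 1 → s = 0 ∧ t = 0
  y_comm : ∀ s, ∀ u ∈ D.U, ∃ t, D.y s * u = u * D.y s * D.z t
  rr_mul : ∀ u ∈ D.U, ∀ v ∈ D.U, D.rr (u * v) = D.rr u + D.rr v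
  rr_surj : ∀ r, ∃ u ∈ D.U, D.rr u = r
  rr_ker : ∀ u ∈ D.U, D.rr u = 0 ↔ ∃ s t, u = D.y s * D.z t
  rr_h : ∀ κ, κ ≠ 0 → ∀ u ∈ D.U, D.rr (D.h κ * u * (D.h κ)⁻¹) = κ * D.rr u
  h_y : ∀ κ s, κ ≠ 0 → D.h κ * D.y s * (D.h κ)⁻¹ = D.y (D.χY κ * s)
  h_z : ∀ κ t, κ ≠ 0 → D.h κ * D.z t * (D.h κ)⁻¹ = D.z (D.χZ κ * t)
  χY_mul : ∀ κ κ', κ ≠ 0 → κ' ≠ 0 → D.χY (κ * κ') = D.χY κ * D.χY κ'
  χY_ne : ∀ κ, κ ≠ 0 → D.χY κ ≠ 0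
  χY_neg : D.χY (-1) = 1
  χZ_mul : ∀ κ κ', κ ≠ 0 → κ' ≠ 0 → D.χZ (κ * κ') = D.χZ κ * D.χZ κ'
  χZ_ne : ∀ κ, κ ≠ 0 → D.χZ κ ≠ 0
  χZ_neg : D.χZ (-1) = -1
  χZ_inj : ∀ κ, κ ≠ 0 → D.χZ κ = 1 → κ = 1
  η_mul : ∀ ρ ρ', ρ ≠ 0 → ρ' ≠ 0 → D.η (ρ * ρ') = D.η ρ * D.η ρ'
  η_ne : ∀ ρ, ρ ≠ 0 → D.η ρ ≠ 0
  η_neg : D.η (-1) = 1
  χY_η : ∀ ρ, ρ ≠ 0 → D.χY (D.η ρ) = ρ ^ 2
  w_sq : D.w * D.w = 1
  w_h : ∀ κ, κ ≠ 0 → D.w * D.h κ * D.w = D.h κ⁻¹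
  w_y : ∀ s, s ≠ 0 → D.w * D.y s * D.w = D.y (-s⁻¹) * D.h (D.η s⁻¹) * D.w * D.y (-s⁻¹)

/-- Normal form: `w` fixes the point `p₁ = y 1 * z 1`, `f = τ (y (-1) * z 1)`. -/
structure Nrm (n : ℕ) (D : Dat G F) (f : G) : Prop extends Pre n D where
  f_mem : f ∈ D.U
  rr_f : D.rr f = 1
  a_f : D.h (-1) * f * D.h (-1) = f⁻¹
  key : D.w * (D.y 1 * D.z 1)⁻¹ * D.w * (D.y 1 * D.z 1) * D.w = f⁻¹ * D.h (-1)
  F_one : D.Fs 1 = D.y 1 * D.z 1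
  F_neg : D.Fs (-1) = f
  F_zero : D.Fs 0 = D.y 1 * f
  y_f : D.y 1 * f = f * D.y 1 * D.z (-1)
  f_cube : f * f * f = D.z (-1)
  R_ne : ∀ s, s ≠ 1 → D.rr (D.Fs s) ≠ 0

/-- The three functional equations for `F(s)`. -/
structure FE (D : Dat G F) (f : G) : Prop where
  mem : ∀ s, D.Fs s ∈ D.U
  e1 : ∀ u, u ≠ 0 → D.Fs (1 + u) = D.y (-u⁻¹) * (D.h (D.η u⁻¹) * D.Fs (1 - u⁻¹) * (D.h (D.η u⁻¹))⁻¹)
  e2 : ∀ v, v ≠ 0 → D.Fs (-1 - v⁻¹) = f * (D.h (-1) * D.Fs (-1 + v) * (D.h (-1))⁻¹)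
  e3 : ∀ μ ν, μ ≠ 0 → ν ≠ 0 → D.χZ ν = D.χZ μ + 1 →
    D.h ν * D.Fs (-(D.χY ν - D.χY μ)) * (D.h ν)⁻¹ = f * (D.h μ * D.Fs (D.χY ν - D.χY μ) * (D.h μ)⁻¹)
  nd : ∀ v, v ≠ 0 → D.y v⁻¹ * f = f * D.y v⁻¹ → D.η v * D.rr (D.Fs (-1 - v)) = -D.rr (D.Fs (1 - v))

/-- The pure-algebra content of the structure functions of `U`. -/
structure CoA (χY χZ : F → F) (φ β ψ : F → F → F) : Prop where
  φ_addl : ∀ r r' w, φ (r + r') w = φ r w + φ r' w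
  φ_addr : ∀ r w w', φ r (w + w') = φ r w + φ r w'
  φ_alt : ∀ r, φ r r = 0
  φ_h : ∀ κ r w, κ ≠ 0 → φ (κ * r) (κ * w) = χY κ * φ r w
  β_addl : ∀ r r' s, β (r + r') s = β r s + β r' s
  β_addr : ∀ r s s', β r (s + s') = β r s + β r s'
  β_h : ∀ κ r s, κ ≠ 0 → β (κ * r) (χY κ * s) = χZ κ * β r s
  β_one : β 1 1 = -1
  co : ∀ r w v, ψ r w + ψ (r + w) v + β v (φ r w) = ψ w v + ψ r (w + v)
  sy : ∀ r w, ψ w r = ψ r w - β (r + w) (φ r w)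
  ψ_h : ∀ κ r w, κ ≠ 0 → ψ (κ * r) (κ * w) = χZ κ * ψ r w
  ψ_zl : ∀ r, ψ 0 r = 0
  ψ_zr : ∀ r, ψ r 0 = 0
  ψ_neg : ∀ r, ψ r (-r) = 0
  ψ_one : ψ 1 1 = -1

/-- Coordinates `u = x r * y s * z t` on `U`. -/
structure Co (D : Dat G F) (f : G) (φ β ψ : F → F → F) : Prop extends CoA D.χY D.χZ φ β ψ where
  x_mem : ∀ r, D.x f r ∈ D.U
  rr_x : ∀ r, D.rr (D.x f r) = r
  x_one : D.x f 1 = f
  h_x : ∀ κ r, κ ≠ 0 → D.h κ * D.x f r * (D.h κ)⁻¹ = D.x f (κ * r)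
  ex : ∀ u ∈ D.U, ∃ r s t, u = D.x f r * D.y s * D.z t
  un : ∀ r s t r' s' t', D.x f r * D.y s * D.z t = D.x f r' * D.y s' * D.z t' → r = r' ∧ s = s' ∧ t = t'
  xx : ∀ r w, D.x f r * D.x f w = D.x f (r + w) * D.y (φ r w) * D.z (ψ r w)
  yx : ∀ r s, D.y s * D.x f r = D.x f r * D.y s * D.z (β r s)

/-- The characters `η, χY, χZ` (pure algebra). -/
structure Ch (η χY χZ : F → F) : Prop where
  χY_mul : ∀ κ κ', κ ≠ 0 → κ' ≠ 0 → χY (κ * κ') = χY κ * χY κ'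
  χY_ne : ∀ κ, κ ≠ 0 → χY κ ≠ 0
  χY_neg : χY (-1) = 1
  χZ_mul : ∀ κ κ', κ ≠ 0 → κ' ≠ 0 → χZ (κ * κ') = χZ κ * χZ κ'
  χZ_ne : ∀ κ, κ ≠ 0 → χZ κ ≠ 0
  χZ_neg : χZ (-1) = -1
  χZ_inj : ∀ κ, κ ≠ 0 → χZ κ = 1 → κ = 1
  η_mul : ∀ ρ ρ', ρ ≠ 0 → ρ' ≠ 0 → η (ρ * ρ') = η ρ * η ρ'
  η_ne : ∀ ρ, ρ ≠ 0 → η ρ ≠ 0
  η_neg : η (-1) = 1
  χY_η : ∀ ρ, ρ ≠ 0 → χY (η ρ) = ρ ^ 2

/-- The equations for the first coordinate `R s = rr (F s)`. -/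
structure EqR (η χY χZ R : F → F) : Prop where
  r1 : ∀ u, u ≠ 0 → R (1 + u) = η u⁻¹ * R (1 - u⁻¹)
  r2 : ∀ v, v ≠ 0 → R (-1 - v⁻¹) = 1 - R (-1 + v)
  r3 : ∀ μ ν, μ ≠ 0 → ν ≠ 0 → χZ ν = χZ μ + 1 → ν * R (-(χY ν - χY μ)) = 1 + μ * R (χY ν - χY μ)
  r_one : R 1 = 0
  r_zero : R 0 = 1
  r_neg : R (-1) = 1
  r_ne : ∀ s, s ≠ 1 → R s ≠ 0

/-- The equations for the second coordinate in the coordinates `x r * y s * z t`. -/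
structure EqS (χY χZ R S : F → F) (φ : F → F → F) : Prop where
  s1 : ∀ u, u ≠ 0 → S (1 + u) = -u⁻¹ + (u⁻¹) ^ 2 * S (1 - u⁻¹)
  s2 : ∀ v, v ≠ 0 → S (-1 - v⁻¹) = φ 1 (-R (-1 + v)) + S (-1 + v)
  s3 : ∀ μ ν, μ ≠ 0 → ν ≠ 0 → χZ ν = χZ μ + 1 →
    χY ν * S (-(χY ν - χY μ)) = φ 1 (μ * R (χY ν - χY μ)) + χY μ * S (χY ν - χY μ)

/-- multiplication of triples -/
def mulU (σ : F ≃+* F) (a b : F × F × F) : F × F × F :=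
  (a.1 + b.1, a.2.1 + b.2.1 + σ a.1 * b.1,
    a.2.2 + b.2.2 - a.1 * b.2.1 + a.2.1 * b.1 - σ a.1 * a.1 * b.1)

/-- inverse of a triple -/
def invU (σ : F ≃+* F) (a : F × F × F) : F × F × F := (-a.1, -a.2.1 + σ a.1 * a.1, -a.2.2)

/-- torus action on triples -/
def act (σ : F ≃+* F) (κ : F) (a : F × F × F) : F × F × F :=
  (κ * a.1, κ * σ κ * a.2.1, κ ^ 2 * σ κ * a.2.2)

/-- Standard form: Thompson's coordinates. -/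
structure Std (n : ℕ) (D : Dat G F) (σ : F ≃+* F) (t₀ : F) (X : F × F × F → G) : Prop where
  nrm : Nrm n D (X (1, -1, t₀))
  σ_ne : ∃ x, σ x ≠ x
  χY_eq : ∀ κ, κ ≠ 0 → D.χY κ = κ * σ κ
  χZ_eq : ∀ κ, κ ≠ 0 → D.χZ κ = κ ^ 2 * σ κ
  X_mem : ∀ a, X a ∈ D.U
  X_surj : ∀ u ∈ D.U, ∃ a, X a = u
  X_inj : Function.Injective X
  X_mul : ∀ a b, X a * X b = X (mulU σ a b)
  X_h : ∀ κ a, κ ≠ 0 → D.h κ * X a * (D.h κ)⁻¹ = X (act σ κ a)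
  X_y : ∀ s, D.y s = X (0, s, 0)
  X_z : ∀ t, D.z t = X (0, 0, t)
  X_rr : ∀ a, D.rr (X a) = a.1

/-- The equations in Thompson's coordinates (pure algebra). -/
structure EqD (σ : F ≃+* F) (t₀ : F) (η R S T : F → F) : Prop where
  ch : Ch η (fun κ => κ * σ κ) (fun κ => κ ^ 2 * σ κ)
  eqR : EqR η (fun κ => κ * σ κ) (fun κ => κ ^ 2 * σ κ) R
  s1 : ∀ u, u ≠ 0 → S (1 + u) = -u⁻¹ + (u⁻¹) ^ 2 * S (1 - u⁻¹)
  s2 : ∀ v, v ≠ 0 → S (-1 - v⁻¹) = S (-1 + v) - R (-1 + v) - 1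
  s3 : ∀ μ ν, μ ≠ 0 → ν ≠ 0 → ν ^ 2 * σ ν = μ ^ 2 * σ μ + 1 →
    ν * σ ν * S (-(ν * σ ν - μ * σ μ)) = μ * σ μ * S (ν * σ ν - μ * σ μ) + μ * R (ν * σ ν - μ * σ μ) - 1
  t1 : ∀ u, u ≠ 0 → T (1 + u) = η u⁻¹ * (u⁻¹) ^ 2 * T (1 - u⁻¹) - u⁻¹ * R (1 + u)
  t2 : ∀ v, v ≠ 0 → T (-1 - v⁻¹) = t₀ - T (-1 + v) - S (-1 + v) - R (-1 + v)
  t3 : ∀ μ ν, μ ≠ 0 → ν ≠ 0 → ν ^ 2 * σ ν = μ ^ 2 * σ μ + 1 →
    ν ^ 2 * σ ν * T (-(ν * σ ν - μ * σ μ)) = t₀ + μ ^ 2 * σ μ * T (ν * σ ν - μ * σ μ) -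
      μ * σ μ * S (ν * σ ν - μ * σ μ) + μ * R (ν * σ ν - μ * σ μ)
  v_one : S 1 = 1 ∧ T 1 = 1
  v_neg : S (-1) = -1 ∧ T (-1) = t₀
  v_zero : S 0 = 0 ∧ T 0 = t₀ + 1

/-- `w X a w = X b h κ w X c` -/
def Rel (D : Dat G F) (X : F × F × F → G) (a b : F × F × F) (κ : F) (c : F × F × F) : Prop :=
  κ ≠ 0 ∧ D.w * X a * D.w = X b * D.h κ * D.w * X c

/-! ### Reflection for polynomial identities in characteristic 3 -/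

/-- polynomial expressions with natural coefficients in the variables `0, 1, 2, 3` -/
inductive Ex : Type
  | var (i : Fin 4) : Ex
  | nat (c : ℕ) : Ex
  | add (a b : Ex) : Ex
  | mul (a b : Ex) : Ex

namespace Ex

instance : Add Ex := ⟨Ex.add⟩
instance : Mul Ex := ⟨Ex.mul⟩

/-- evaluation -/
def ev {R : Type*} [CommSemiring R] (x : Fin 4 → R) : Ex → R
  | var i => x i
  | nat c => (c : R)
  | add a b => ev x a + ev x b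
  | mul a b => ev x a * ev x b

/-- evaluation in `ℕ` (kernel friendly) -/
def val (x₀ x₁ x₂ x₃ : ℕ) : Ex → ℕ
  | var i => match i with | 0 => x₀ | 1 => x₁ | 2 => x₂ | 3 => x₃
  | nat c => c
  | add a b => Nat.add (val x₀ x₁ x₂ x₃ a) (val x₀ x₁ x₂ x₃ b)
  | mul a b => Nat.mul (val x₀ x₁ x₂ x₃ a) (val x₀ x₁ x₂ x₃ b)

/-- a bound for the degree in the variable `j` -/
def deg (j : Fin 4) : Ex → ℕ
  | var i => if i = j then 1 else 0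
  | nat _ => 0
  | add a b => max (deg j a) (deg j b)
  | mul a b => Nat.add (deg j a) (deg j b)

/-- substitution -/
def subst (e₀ e₁ e₂ e₃ : Ex) : Ex → Ex
  | var i => match i with | 0 => e₀ | 1 => e₁ | 2 => e₂ | 3 => e₃
  | nat c => nat c
  | add a b => add (subst e₀ e₁ e₂ e₃ a) (subst e₀ e₁ e₂ e₃ b)
  | mul a b => mul (subst e₀ e₁ e₂ e₃ a) (subst e₀ e₁ e₂ e₃ b)

/-- Horner form `l₀ + x_i (l₁ + x_i (l₂ + ...))` -/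
def hor (i : Fin 4) : List Ex → Ex
  | [] => nat 0
  | [a] => a
  | a :: b :: l => add a (mul (var i) (hor i (b :: l)))

/-- univariate polynomial in the variable `i` from its list of coefficients -/
def p1 (i : Fin 4) (l : List ℕ) : Ex := hor i (l.map nat)
/-- outer variable `i`, inner variable `j` -/
def p2 (i j : Fin 4) (l : List (List ℕ)) : Ex := hor i (l.map (p1 j))
/-- variables `i`, `j`, `k` from the outside to the inside -/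
def p3 (i j k : Fin 4) (l : List (List (List ℕ))) : Ex := hor i (l.map (p2 j k))

/-- all the lowest `2 ^ k` digits in base `2 ^ b` are divisible by 3 -/
def dig3 (b : ℕ) : ℕ → ℕ → Bool
  | 0, N => Nat.beq (Nat.mod (Nat.mod N (Nat.pow 2 b)) 3) 0
  | k + 1, N => dig3 b k (Nat.mod N (Nat.pow 2 (Nat.mul b (Nat.pow 2 k)))) &&
      dig3 b k (Nat.div N (Nat.pow 2 (Nat.mul b (Nat.pow 2 k))))

/-- the check: Kronecker substitution with base `2 ^ b` and box `d₀ × d₁ × d₂ × d₃ ≤ 2 ^ k` -/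
def chk (b d₀ d₁ d₂ d₃ k : ℕ) (e : Ex) : Bool :=
  Nat.blt (deg 0 e) d₀ && Nat.blt (deg 1 e) d₁ && Nat.blt (deg 2 e) d₂ && Nat.blt (deg 3 e) d₃ &&
    Nat.ble (d₀ * d₁ * d₂ * d₃) (2 ^ k) && Nat.blt (val 1 1 1 1 e) (2 ^ b) &&
    dig3 b k (val (2 ^ b) (2 ^ (b * d₀)) (2 ^ (b * d₀ * d₁)) (2 ^ (b * d₀ * d₁ * d₂)) e)

end Ex

/-- job TB-REF -/
def StRef : Prop :=
  ∀ (b d₀ d₁ d₂ d₃ k : ℕ) (e : Ex), Ex.chk b d₀ d₁ d₂ d₃ k e = true →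
    ∀ (R : Type) [CommRing R] [CharP R 3] (x : Fin 4 → R), e.ev x = 0

end CL.TB
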