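/- Project TB: polynomial data (coefficients mod 3), generated by tools/tb/gen.cpp.
Variables: 0 = μ, 1 = P, 2 = Q, 3 = B. -/
import Cfsg.Agent.TB.Defs

set_option autoImplicit false
set_option maxRecDepth 100000

namespace CL.TB

def qa0L : List (List (List ℕ)) :=
  [[],
  [[1,2,0,2,1,2,0,0,1], [1,1,1,0,0,1,1,1], [2,1,2,1], [2,1,1,2,0,1], [2,0,2,1,1], [2], [1,0,1], [1,1]],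
  [[0,0,1,0,0,0,0,0,2], [2,2,0,2,0,2,1], [0,2,1,1,0,1,2,2], [1,1,2,1,0,2], [2,2,1], [1,0,2,2,2], [2,0,2], [2], [2,2]],
  [[], [0,0,2,0,1,0,1,0,2], [1,1,0,2,2,0,1,0,2], [0,1,0,1,0,0,1,1], [2,2,0,1,0,2], [1,1,0,1,0,2], [2,0,0,1,1], [1,0,2], [1,0,2], [1,1]],
  [[], [], [0,0,1,0,1,0,1], [0,1,0,2], [1], [0,2,0,1], [1], [], [1]]]

def qa1L : List (List (List ℕ)) :=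
  [[[], [0,0,2,2,0,2,2,1], [0,2,2,2], [2,2,2,0,1,2], [0,2,1,1,2], [], [0,2,1]],
  [[0,1,2,1,0,2,1,1,1], [0,0,0,0,1,1,2,1,1], [2,2,1,1,1,0,1,1], [0,1,1,2,0,2,1], [1,2,2,1,2,2], [2,2,0,2,2], [0,2,0,2]],
  [[0,0,0,1,2,2,1], [0,1,2,2,1,0,2,1], [0,0,0,2,2,2,0,1,2], [1,0,2,1,2,1], [2,0,0,1], [2,1,1,0,1,2], [1,1,2], [0,2], [0,1,2]],
  [[], [0,0,0,1,1,0,1], [0,0,0,2,2,2,2], [0,0,0,0,2,2], [2,2,0,0,2], [1,1,1,1], [0,1,1], [2,1]],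
  [[], [], [0,0,0,0,2], [0,0,0,1], [], [0,1], [2]]]

def qa2L : List (List (List ℕ)) :=
  [[[], [0,0,0,0,2,0,0,1], [0,0,0,2,1,1,2], [0,0,2,1], [0,0,1,0,2], [0,0,2,1]],
  [[0,0,0,1,0,0,2], [0,0,0,1,1,2,2,2,1], [0,0,2,1,0,2,0,1], [0,0,1,1,0,1,1], [0,0,1,1,1,2], [0,0,1,0,2], [0,0,2,2]],
  [[], [0,0,0,0,2,2,2], [0,0,0,2,0,1], [0,0,2], [0,0,1,1], [0,0,2]]]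

def qc0L : List (List (List ℕ)) :=
  [[],
  [[2,0,0,1,2,1,0,1,2], [2,2,2,0,0,2,2,2], [0,0,0,2,1,2,1], [2,0,1,2,2,1], [2,2,1,0,1], [0,0,0,1], [2,0,2], [2,2]],
  [[0,2,0,0,0,0,0,1], [1,0,1,1,1,1,0,1], [0,0,2,0,1,2,0,1], [0,2,0,2,1,2], [1,0,2,2,0,1], [0,0,1], [0,2,0,1], [1]],
  [[], [0,0,0,2,0,2,0,2], [0,0,0,0,0,1,0,2], [0,0,0,0,0,0,0,2], [0,0,0,2,0,1], [0,0,0,0,0,2], [], [0,0,0,2]],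
  [[], [], [0,0,0,1,0,1,0,1], [2,0,0,1,2,0,0,2,2], [2,2,2,0,0,2,2], [0,0,0,0,1,1,1], [2,0,1,2,2,2], [2,2,1,0,1], [0,0,0,2], [2,0,2], [2,2]],
  [[], [], [], [0,2,0,2,0,2], [1,0,1,1,1,2], [0,0,2,0,1,2], [0,2,0,1,1], [1,0,2,2], [0,0,1], [0,2], [1]]]

def qc1L : List (List (List ℕ)) :=
  [[[], [0,1,2,2,0,2,2], [0,0,0,0,2,2,2], [0,2,1,0,2,2,2], [0,2,1,1,2], [], [0,1,2]],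
  [[0,0,2,2,2,1,0,2,1,2], [0,2,2,1,2,2], [0,0,1,2,2,1,1,1,1], [0,2,1,0,0,1,1], [0,0,2,2,0,0,1], [0,0,2,1,0,1], [0,1,0,1], [0,1,2]],
  [[0,0,0,0,0,1,2,2,1], [0,0,0,1,2,0,1,2,2,1], [0,2,1,0,2,2,2], [0,0,0,1,2,1,2,0,1], [0,0,0,0,1,0,0,2], [0,2,1,0,1,1,2], [0,0,0,2,1,1], [0,0,0,2], [0,2,1]],
  [[], [0,0,0,0,0,1,1,0,1], [0,0,0,2,2,1,0,2,1,2], [0,1,2,0,2,2,1], [0,1,2,1,2,1,0,1], [0,0,0,0,0,1,1], [], [0,2,1,2], [0,0,0,1], [0,2,1]],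
  [[], [], [0,0,0,0,0,0,2], [0,0,2,0,2,2,2], [0,1,0,1,2,2,2], [0,0,1,0,2,2], [0,2,1], [0,2,0,2], [0,0,2], [0,1]]]

def qc2L : List (List (List ℕ)) :=
  [[[], [0,0,0,1,0,0,2], [0,0,0,2,1,1,2], [0,0,0,0,0,1,2], [0,0,0,2,0,1], [0,0,0,1,2]],
  [[0,0,0,0,0,0,1,0,0,2], [0,0,0,2,1,1,1,2,2], [0,0,0,1,0,1,1,2,1], [0,0,0,0,1,2,0,2], [0,0,0,1,2,1], [0,0,0,2,0,1], [0,0,0,0,2]],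
  [[], [0,0,0,0,0,0,0,2,2,2], [0,0,0,2,1,1,2,2,1], [0,0,0,0,0,1,2,2], [0,0,0,1,0,1,2], [0,0,0,1,2], [], [0,0,0,2]]]

def qd0L : List (List (List ℕ)) :=
  [[],
  [],
  [[], [], [1,0,0,1,0,0,1], [], [1,2,0,2,1], [], [1,1,1]],
  [[0,1,2,0,1,2,0,1,2], [1,0,2,1,0,2,1,0,2], [0,2,0,0,2,0,0,2], [], [0,1,2,0,2,1], [], [0,0,2,1], [2,0,1], [0,2]],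
  [[], [0,0,2,0,0,2,0,0,2], [2,0,2,2,0,2,2,0,2], [0,1,1,0,0,2,0,2], [0,2,0,1,1,0,2], [0,0,1,2,2,1], [0,2,1,1,2], [0,0,2,1], [1,2], [0,2]],
  [[], [], [0,2,0,0,2,0,0,2], [1,0,0,1,0,0,1], [0,2,1,0,1,2], [1,2,0,2,1], [0,2,2,2], [1,1,1]]]

def qd1L : List (List (List ℕ)) :=
  [[[], [], [], [], [2,1,0,1,2]],
  [[], [], [0,1,1,1,2,2,2], [2,1,1,0,2,2,1], [0,1,0,0,2], [1,2,0,2,1], [2,0,0,1]],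
  [[0,0,2,0,0,2,0,0,2], [0,0,1,0,0,1,0,0,1], [0,1,0,1,0,0,2,2], [0,2,2,2,1,1,1], [1,0,2,1,0,1,1], [2,1,2,2,0,2], [2,2,0,0,2], [1,2,0,1], [0,1]],
  [[], [0,0,0,2,2,2,1,1,1], [0,2,1,2,1,0,1,0,2], [0,1,1,2,0,2,1,2], [], [2,1,0,1,2], [1,2,1,0,2], [0,1,0,2], [2,2], [0,1]],
  [[], [], [0,0,1,0,2,2,0,1], [0,2,0,1,1,0,2], [0,0,1,0,0,2], [0,2,2,2], [0,2,2,2], [2,2,2]]]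

def qd2L : List (List (List ℕ)) :=
  [[[], [], [], [0,2,1,0,1,2], [0,2,0,0,1], [0,2,2,2]],
  [[], [0,0,2,2,2,1,1,1], [0,0,1,0,2,2,0,1], [0,0,1,1,0,2,2], [0,2,0,0,1], [0,1,2,2,1], [0,1,0,2], [0,2]],
  [[], [], [0,0,2,0,1,1,0,2], [0,0,1,0,0,2], [0,0,1,1,1], [0,0,2,2,2], [0,2,2,2], [0,2,1], [0,2]]]

def qe0L : List (List (List ℕ)) :=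
  [[],
  [[], [0,0,1,2,1,2,1,2], [0,1,2,2,1], [1,2], [0,2,1,1,2], [1,2], [], [1,2]],
  [[0,2,0,1,2,1,2,2,2], [0,2,2,1,2,0,0,0,2], [1,0,1,2,1,2,2], [0,2,1,1,0,2], [0,0,0,0,0,2], [0,2,1,2], [0,1,2], [0,0,2], [2]],
  [[], [0,2,1,1,0,1,0,2,2], [0,0,2,0,2,0,0,0,2], [2,0,0,0,0,0,1,1], [0,0,2,0,2,2], [0,1,0,0,0,2], [0,0,0,1,1], [0,2,2], [0,0,2], [1,1]],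
  [[], [], [0,0,1,0,1,0,1], [0,1,0,2], [1], [0,2,0,1], [1], [], [1]]]

def qe1L : List (List (List ℕ)) :=
  [[[], [0,0,2,2,0,2,2,1], [0,2,2,2], [2,2,2,0,1,2], [0,2,1,1,2], [], [0,2,1]],
  [[0,1,0,2,2,0,0,2,2], [0,2,0,0,2,0,1,0,1], [2,1,1,1,0,2,1,1], [0,2,0,0,0,0,1], [1,1,0,2,1,2], [2,0,1,2,2], [0,1,1,2], [0,2]],
  [[0,0,0,1,2,2,1], [0,1,0,0,0,1,1,2,1], [0,2,0,2,0,1,2,0,2], [1,2,2,1,1], [2,1,2,2,0,1], [2,0,2,1,0,2], [1,2], [0,1,1], [0,0,2]],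
  [[], [0,0,0,1,1,0,1], [0,0,0,2,2,2,2], [0,0,0,0,2,2], [2,2,0,0,2], [1,1,1,1], [0,1,1], [2,1]],
  [[], [], [0,0,0,0,2], [0,0,0,1], [], [0,1], [2]]]

def qe2L : List (List (List ℕ)) :=
  [[[], [0,2,1,2,2,0,0,2], [0,2,2,2,1,2], [0,2,2,1,0,1], [0,0,1,0,1], [0,0,1], [0,0,2]],
  [[], [0,0,0,2,1,0,2,1], [0,2,0,2,1,2,0,1], [0,1,2,0,0,2,1], [0,1,0,1,2,1], [0,2,1,0,2], [0,0,1,2], [0,0,2]],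
  [[], [], [0,0,0,2,1,2], [0,0,2,0,1], [0,2], [0,2,1], [0,2]]]

def h1L : List (List (List ℕ)) :=
  [[[0,0,0,0,0,0,0,0,0,0,1,2,2,2,2,2,2,2,2,1], [0,0,0,0,0,0,0,0,2,0,0,0,0,0,0,0,0,1], [0,0,0,0,0,0,0,1,1,0,1,0,1,0,0,0,2,2,0,2,0,2], [0,0,0,0,0,0,2,0,2,1,1,1,2,0,2,0,2,0,1,1,1,0,2], [0,0,0,0,0,0,1,0,1,1,0,2,1,0,0,2,0,2,2,0,1,2], [0,0,0,0,0,0,0,0,2,1,1,1,0,2,0,2,0,1,2,2,2,0,1,0,1], [0,0,0,0,0,0,0,0,2,2,0,0,1,1,1,0,2,1,1,0,0,2,2,2,0,1], [0,0,0,0,0,0,0,0,0,2,0,2,2,0,1,2,0,0,1,0,1,1,0,2,1], [0,0,0,0,0,0,0,0,0,0,0,1,2,2,2,0,1,0,1,0,2,1,1,1,0,2,0,2], [0,0,0,0,0,0,0,0,0,0,0,1,1,0,0,2,2,2,0,2,1,1,2,2,0,0,0,2], [0,0,0,0,0,0,0,0,0,0,0,0,1,0,1,1,0,1,1,0,0,2,0,2,2,0,2,2],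 [0,0,0,0,0,0,0,0,0,0,0,0,0,0,2,1,2,2,0,0,0,0,0,1,2,1,1], [0,0,0,0,0,0,0,0,0,0,0,0,0,0,2,1,0,2,2,2,2,2,2,0,1,2]],
  [[0,0,0,0,0,0,0,1,1,2,2,1,1,1,1,1,0,0,2,2], [0,0,0,0,0,1,0,1,2,1,0,0,1,0,2,0,2,1,2,0,0,2], [0,0,0,0,1,0,1,2,1,0,1,0,0,2,0,2,1,2,0,2], [0,0,0,0,1,2,1,2,2,0,1,2,1,2,2,0,2,2,1,0,2,0,1], [0,0,0,0,1,2,2,0,2,2,2,2,0,2,1,0,0,1,1,1,1,0,0,0,1], [0,0,0,0,0,2,2,1,1,1,0,0,0,2,1,1,2,2,2,0,0,0,1], [0,0,0,0,0,0,0,0,2,2,2,2,1,0,2,0,1,1,1,1,1,2,0,1,0,2], [0,0,0,0,0,0,0,2,1,1,0,1,1,1,1,0,1,2,0,0,2,2,2,2,0,0,0,2], [0,0,0,0,0,0,0,0,1,1,2,2,2,0,0,0,1,2,2,1,1,1,0,0,0,2], [0,0,0,0,0,0,0,0,0,0,0,1,1,1,1,2,1,2,2,1,0,0,0,0,2,0,2,2], [0,0,0,0,0,0,0,0,0,0,1,2,2,0,0,2,0,1,1,2,1,1,0,0,1,0,2,2],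 [0,0,0,0,0,0,0,0,0,0,0,2,2,2,1,2,2,1,0,0,1,1,1,2,1,1,2], [0,0,0,0,0,0,0,0,0,0,0,0,0,1,1,0,1,1,1,1,1,1,0,0,1]],
  [[0,0,0,0,0,2,0,2,1,1,1,1,0,1,1,0,2,2,2,0,2], [0,0,0,2,1,0,0,0,0,0,1,0,1,0,0,2,1,0,2,0,0,2], [0,0,2,2,1,2,1,1,1,1,0,0,1,2,0,2,0,1,2,1,0,0,1], [0,0,0,0,2,2,2,0,1,2,1,2,0,1,1,2,1,1,2,0,0,1,1,2], [0,0,1,2,1,1,0,1,0,2,1,1,0,1,2,0,2,0,1,2,1,1,1], [0,0,0,1,0,1,2,1,2,0,2,0,1,0,0,1,2,1,0,1,0,1,0,2], [0,0,0,0,2,2,2,2,1,0,2,2,0,1,2,1,2,2,0,1,1,0,0,2,0,2], [0,0,0,0,0,0,2,0,2,2,1,2,0,1,1,1,2,1,0,2,1,0,2,2,0,1,0,1], [0,0,0,0,0,0,1,2,1,1,0,2,1,2,1,0,2,0,2,1,1,2,1,2,2,2,2,0,2], [0,0,0,0,0,0,0,2,2,2,1,1,2,0,2,2,0,0,0,2,2,1,1,1,1,2,1,1,1], [0,0,0,0,0,0,0,0,2,0,2,1,1,1,2,1,0,0,1,2,2,1,0,1,1,1,1,1],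 [0,0,0,0,0,0,0,0,0,0,2,2,1,0,2,2,1,2,0,2,0,2,1,0,1], [0,0,0,0,0,0,0,0,0,0,0,0,0,1,2,1,1,2,1,1,2,1]],
  [[0,0,0,0,2,2,0,2,1,1,0,2,0,2,0,2,1,0,0,2,1], [0,0,1,2,0,2,2,1,1,1,0,2,2,2,2,1,1,0,2,2,1,2], [0,1,0,1,0,0,1,1,0,0,2,2,2,1,1,0,0,1,1,1,2,1], [0,1,0,0,2,0,1,2,0,1,0,2,0,1,2,0,1,2,2,1,2,2,1,1], [0,1,0,0,0,2,1,2,0,1,1,2,0,1,1,0,1,0,2,1,1,0,2,0,2], [0,0,2,2,0,0,0,0,1,2,1,1,1,0,0,2,1,2,1,2,0,0,0,0,1,2], [0,0,0,1,2,0,0,0,0,0,0,1,2,0,0,1,0,0,0,0,2,0,1,0,2], [0,0,0,0,1,0,2,1,0,2,1,1,0,2,0,0,2,1,1,2,2,0,0,0,1,0,2], [0,0,0,0,0,2,1,1,2,1,0,2,0,1,2,0,0,0,2,1,1,0,2,2,2,2,1,0,2], [0,0,0,0,0,0,1,1,2,1,2,0,0,0,2,1,1,1,0,2,0,0,1,0,0,1,1,0,1], [0,0,0,0,0,0,0,0,0,2,1,2,0,2,0,1,2,2,1,1,2,0,0,1,2,0,2],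 [0,0,0,0,0,0,0,0,0,2,2,2,2,0,1,2,1,1,2,2,2,2,1,0,2], [0,0,0,0,0,0,0,0,0,0,0,2,1,1,0,1,0,2,0,2,2,1]],
  [[0,0,0,2,1,1,0,1,0,1,2,0,2,1,2,2,0,0,2,1], [0,0,2,0,0,0,1,2,1,0,1,1,1,1,1,1,0,1,0,2], [0,2,2,0,2,2,1,0,0,0,0,2,0,0,1,2,2,2,2,2,0,1,1], [1,1,0,1,2,1,2,0,0,0,2,0,0,0,0,1,0,1,1,0,2,0,1,2], [1,0,0,2,0,2,1,0,1,1,0,2,1,0,1,0,1,0,2,1,2,1,1,1], [0,2,0,0,2,2,2,2,0,1,1,2,0,2,2,2,0,2,1,2,0,2,1,1,1], [0,0,1,0,1,2,0,1,1,2,2,0,0,2,2,0,0,1,2,2,0,1,1,0,1,0,2], [0,0,0,1,2,2,0,1,1,1,1,0,0,1,2,1,2,0,1,1,2,1,2,1,1,2,1], [0,0,0,0,2,1,1,2,1,2,2,1,2,2,2,0,0,2,2,0,0,2,0,1,0,2,1,0,2], [0,0,0,0,0,1,2,1,0,2,0,1,0,1,0,0,1,1,0,2,1,0,0,1,2,1,1], [0,0,0,0,0,0,0,2,2,1,1,1,0,1,2,0,0,1,0,0,0,2,1,0,0,1],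 [0,0,0,0,0,0,0,0,1,1,2,1,0,2,0,2,1,0,0,1,2,0,0,2], [0,0,0,0,0,0,0,0,0,0,1,1,0,1,1,1,1,2,0,0,2,2]],
  [[0,0,0,2,0,2,0,2,2,1,2,0,1,0,2,0,1,2,2,1,1], [0,0,1,2,0,2,1,1,1,2,0,1,2,1,2,1,1,2,0,0,0,1], [0,1,2,2,1,1,0,1,1,2,1,0,2,2,0,2,0,1,0,1,1,1,2], [1,0,0,2,2,0,1,2,1,1,0,2,0,1,1,1,0,0,0,0,1,0,1,1], [1,2,1,2,1,2,1,1,0,1,1,0,2,1,1,0,1,1,1,2,0,2,0,1,2], [1,0,2,0,1,1,0,1,2,2,1,1,0,1,1,2,1,0,0,0,2,0,2,0,1,2], [0,2,1,2,1,0,2,2,1,0,2,2,1,0,1,0,0,0,0,1,1,0,1,0,1], [0,0,1,1,0,0,2,1,1,1,1,0,2,0,1,2,0,0,1,0,1,0,1,1,2,0,1,1], [0,0,0,1,1,0,1,2,2,2,0,1,1,1,0,2,2,0,1,2,0,1,0,1,0,1,2], [0,0,0,0,2,1,1,2,2,2,0,1,0,1,2,2,0,0,1,1,2,0,1,0,0,2,1], [0,0,0,0,0,1,0,1,2,0,0,0,2,0,2,2,0,2,2,2,0,0,0,2],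 [0,0,0,0,0,0,0,1,1,1,2,0,1,0,0,2,1,0,1,2,2,1], [0,0,0,0,0,0,0,0,0,0,1,2,2,0,0,2,1,2,2,1,2]],
  [[0,0,0,2,0,1,1,0,0,2,2,0,0,2,1,2,0,2,2,2,2], [0,0,2,2,1,1,0,1,0,1,0,2,0,2,2,2,1,0,0,1,2,1], [0,2,1,1,1,1,2,0,0,2,2,0,0,2,2,2,1,0,0,1,2,2], [2,1,1,1,1,0,2,1,0,1,1,0,0,1,2,0,0,2,0,0,2,0,1,2], [0,1,0,0,0,1,1,2,0,2,2,0,1,2,1,2,1,2,1,0,2,2,1], [1,0,0,2,0,0,0,1,2,1,0,2,1,0,2,0,1,1,0,2,1,2,2,1,2], [0,0,1,0,0,0,1,1,0,0,0,2,2,2,0,2,1,0,1,1,0,2,2,0,1,2], [0,0,0,0,2,2,2,2,2,1,2,2,1,2,0,2,1,1,0,1,2,2,2,2,2,0,1,2], [0,0,0,2,1,2,0,1,0,0,2,1,1,2,0,2,2,1,1,2,2,1,1,1,2,1,2], [0,0,0,0,0,0,2,0,2,2,1,1,0,1,0,2,0,0,1,2,1,1,0,2,1,2], [0,0,0,0,0,0,0,1,2,2,2,0,2,1,0,2,1,0,2,2,2,1,2,2],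 [0,0,0,0,0,0,1,1,2,1,0,1,1,2,0,2,2,1,0,1,2,1], [0,0,0,0,0,0,0,0,2,1,1,0,2,1,1,0,2,0,0,2]],
  [[0,0,0,1,1,2,0,2,2,2,2,2,1,0,0,2,1], [0,0,0,0,2,1,2,1,2,1,0,0,2,0,2,0,2,1,0,1,0,1], [0,2,1,1,2,0,1,1,1,0,0,1,1,1,1,1,2,1,2,2,1,0,2], [1,1,2,2,2,2,1,1,0,2,2,2,1,2,1,0,0,1,1,2,0,1,2,1], [2,1,1,0,2,2,2,0,0,0,0,1,2,2,2,2,2,0,2,0,0,1,2,0,1], [1,1,1,1,1,1,0,0,1,1,2,2,1,1,1,0,2,0,2,2,2,0,1,1,0,2], [0,1,1,1,2,1,0,1,1,2,1,1,2,1,1,2,0,2,0,0,1,1,1,0,1,2,1], [0,0,2,2,0,1,1,0,0,2,1,1,2,2,2,2,0,0,0,1,1,2,1,2,1,1], [0,0,0,1,0,1,1,0,1,0,0,2,2,0,1,1,0,1,2,1,2,1,0,1,1,2], [0,0,0,0,2,2,0,2,0,0,0,2,0,1,1,0,1,1,0,0,0,1,0,0,2], [0,0,0,0,0,2,0,2,0,1,1,1,0,0,2,1,0,0,1,1,1,0,2], [0,0,0,0,0,0,0,2,0,0,1,1,1,2,1,2,2,0,0,2,1],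 [0,0,0,0,0,0,0,1,1,0,1,1,2,1,0,1,0,1]],
  [[0,0,0,0,0,0,1,0,0,1,0,1,1,0,1,0,0,0,2,2], [0,0,0,1,1,1,2,0,2,2,0,0,2,0,1,1,2,2,1], [0,0,0,0,0,0,1,1,0,1,1,2,1,1,2,0,0,2], [2,0,1,0,2,2,2,1,2,2,0,2,1,1,0,0,2,1,0,1,0,1,1], [1,2,0,1,1,0,0,2,1,2,2,0,1,2,0,0,0,0,1,2,2,0,1], [0,0,2,2,0,1,0,2,1,2,1,2,1,0,1,1,0,0,1,0,2,2], [0,0,0,1,2,2,2,0,0,2,0,0,0,2,1,1,1,1,1,1,2,0,1,0,2,2], [0,0,0,0,1,1,2,1,0,2,1,0,2,2,0,0,0,0,1,0,2,0,0,0,2,1], [0,0,0,1,1,2,2,2,2,2,2,1,1,1,1,0,1,2,0,2,1,1,0,0,2], [0,0,0,0,1,2,1,2,1,0,2,1,2,2,1,2,2,2,1,0,2,2,2,2], [0,0,0,0,0,0,2,2,1,1,0,0,0,0,0,2,0,2,1,1], [0,0,0,0,0,0,1,1,0,0,2,1,2,0,0,0,1,2,0,2], [0,0,0,0,0,0,0,1,2,2,0,0,1,1,0,2]],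
  [[0,0,0,2,1,2,1,1,2,1,0,1,1,2,2,2,1,2,2,1], [0,0,1,1,1,1,1,0,2,2,1,0,1,0,1,2,0,0,1], [0,1,2,0,0,1,1,0,2,0,2,2,2,0,1,1,1,2,1,0,0,2], [2,0,1,1,2,2,0,2,1,1,2,2,0,1,0,2,2,1,0,1,1,2,1], [0,0,2,1,0,1,0,2,1,2,1,2,1,0,0,0,2,2,1,1,1,1], [1,1,0,1,1,1,2,1,1,2,0,1,1,2,0,0,0,1,1,2,2,2,2,0,2], [1,2,0,2,0,0,2,0,1,0,0,2,2,1,0,1,1,1,2,0,2,2,2], [0,1,1,0,1,2,0,1,0,1,0,1,1,2,1,1,1,0,2,0,2,2,0,2,2], [0,0,0,0,2,1,1,1,0,2,0,1,0,1,0,1,1,1,0,0,2,2,1,1], [0,0,0,1,0,1,0,2,0,1,1,1,0,2,0,0,2,2,2,1,2,2,1], [0,0,0,0,1,1,0,1,0,0,1,1,2,0,2,0,0,2,0,2,2], [0,0,0,0,0,0,2,1,1,0,0,1,2,2,0,1,1,2,2], [0,0,0,0,0,0,0,1,1,0,2,2,0,1,2,2,1]],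
  [[0,0,0,1,1,0,1,1,0,1,0,2,0,0,2,2,2,0,2], [0,0,0,0,2,1,0,1,1,0,2,0,1,1,1,2,2,0,1], [0,0,2,1,2,0,1,0,2,2,0,0,1,0,1,1,0,2,2,1], [0,1,1,2,0,0,0,0,1,2,0,0,2,0,0,0,0,2,0,1,1,2], [1,2,1,0,1,1,2,1,1,0,0,1,2,0,0,2,1,1,2,1,1], [0,1,1,0,2,1,2,2,0,0,2,1,2,2,0,2,2,1,2,2,2,1,2], [2,0,1,2,1,0,0,1,1,1,0,2,1,2,0,1,0,2,1,2,0,1], [0,0,2,1,0,1,1,0,2,0,0,1,1,1,2,2,2,0,1,1,1,0,2], [0,0,1,1,2,2,0,2,1,2,2,0,1,2,1,1,0,2,1,2,2,0,2], [0,0,0,2,0,1,1,2,1,2,0,1,0,0,1,2,2,2,1,0,1,2], [0,0,0,0,0,2,0,0,1,1,0,1,1,2,2,1,0,0,1], [0,0,0,0,0,1,1,1,2,2,0,1,1,2,2,1,0,1], [0,0,0,0,0,0,0,0,0,1,0,2,2,2,0,2]],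
  [[0,0,0,1,0,0,1,1,2,1,2,0,1,1,0,0,0,2], [0,0,0,0,2,0,0,0,2,1,0,0,0,2,2,2,2,2], [0,2,2,1,0,1,0,1,1,0,1,2,1,2,1,0,1,2,1,2], [2,1,1,2,1,0,1,2,1,1,2,0,2,1,0,2,2,0,1,2], [0,2,2,2,2,2,2,2,1,1,1,1,1,2,2,2,1,0,2,2,1,2], [1,2,0,1,2,2,1,2,0,1,1,1,0,0,0,1,0,2,2,2,1,2], [0,0,1,2,2,1,2,0,0,2,2,2,1,1,2,2,2,1,1,1,2,2,1], [0,0,1,0,1,0,2,0,1,2,2,2,2,1,0,1,1,1,1,2,1,1,2], [0,0,1,0,1,1,2,2,1,0,0,2,1,2,1,0,2,2,1,2,1,2], [0,0,0,1,0,0,2,0,0,2,0,1,2,2,2,0,0,1,0,2], [0,0,0,0,0,0,2,0,2,1,0,1,2,2,2,0,1,1,1], [0,0,0,0,0,1,0,0,0,0,1,2,1,2,0,2], [0,0,0,0,0,0,1,2,1,0,0,1,1]],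
  [[0,0,0,1,0,0,1,1,0,2,2,0,2,2,1,1,2], [0,0,1,0,2,0,0,2,1,1,0,1,1,2,1,1,1,2], [0,2,0,0,1,1,0,1,0,2,0,1,2,1,2,2,2,1,1], [0,2,0,2,2,2,0,0,0,0,0,0,2,2,2,1,2,1], [0,1,2,1,0,2,0,2,2,1,0,2,1,2,1,0,1,0,1,1,1], [0,2,1,2,1,2,0,1,0,2,1,2,0,2,0,2,2,0,2,1,2,2], [2,2,1,0,2,0,2,0,1,1,2,2,0,2,2,0,2,2,1,2,1], [0,1,0,0,2,2,1,0,2,1,1,2,0,2,0,2,1,1,2,1,1,2], [0,0,1,2,1,2,2,2,1,1,2,2,1,0,0,2,2,1,0,1,1], [0,0,0,0,1,1,2,0,2,2,2,2,1,0,2,2,0,0,0,1], [0,0,0,0,1,2,2,1,2,2,2,2,1,0,0,2,1,1], [0,0,0,0,0,1,0,0,1,0,0,1,1,2,0,1], [0,0,0,0,0,0,1,1,2,2,1,0,2]],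
  [[0,0,0,1,0,0,1,0,2,2,2,0,0,1,1,2], [0,0,2,0,1,0,0,0,1,2,0,2,2,1], [0,2,1,1,1,0,0,0,2,0,1,0,0,1,0,2,1,2], [1,2,0,2,1,2,0,1,2,2,2,2,2,2,2,2,2], [1,1,1,1,2,0,1,2,1,0,1,0,2,2,1,0,1,0,1], [1,0,2,0,1,0,2,1,1,1,1,1,2,0,2,0,0,0,0,2,1], [1,2,1,0,2,0,1,0,0,0,2,0,2,1,2,2,2,1,2,1,2], [0,1,1,1,1,0,1,1,1,1,0,0,2,0,0,2,0,2,2,0,2], [0,0,2,2,0,1,0,1,2,0,1,2,2,2,1,1,2,0,1,1], [0,0,0,2,2,0,2,1,0,0,1,0,1,1,0,0,0,0,2], [0,0,0,0,1,1,1,0,0,2,0,0,1,2,1,0,2], [0,0,0,0,0,2,1,0,2,2,2,1,0,0,1], [0,0,0,0,0,0,1,0,1,0,2,1,1]],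
  [[0,0,0,1,1,2,1,2,0,1,2,2,0,1,2], [0,0,1,0,1,2,2,0,1,2,0,2,1,0,1], [0,0,0,0,1,0,2,1,0,2,0,0,1,0,0,1,2], [1,1,0,0,1,2,2,1,0,2,1,1,1,1,2,1,2,1], [2,0,2,0,2,0,0,2,1,2,2,1,1,1,1,0,2,1,2], [2,1,0,0,1,2,1,2,1,2,1,2,1,2,1,0,2,0,0,2], [0,2,0,0,0,1,2,1,0,1,1,1,0,1,1,0,2,2,1], [0,0,1,2,2,0,2,2,2,2,2,1,0,2,0,0,2,2,2,2], [0,0,0,0,0,2,2,0,1,0,1,0,0,1,1,2,2,2,2], [0,0,0,2,2,0,1,1,2,0,0,2,1,0,1,1,2,2], [0,0,0,0,0,2,2,1,1,1,0,0,0,0,1], [0,0,0,0,0,0,2,2,2,2,1,1,2], [0,0,0,0,0,0,2,0,1,0,2,1]],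
  [[0,0,0,1,1,0,0,0,2,1,0,1,1,2], [0,0,2,0,1,2,1,2,0,1,2,1,2], [0,0,1,1,0,2,2,0,2,2,0,0,1], [2,0,0,2,0,0,2,2,0,1,1,2,2,2,1,1], [2,2,1,0,2,2,2,1,1,2,0,0,2,0,1,0,0,2], [0,1,2,1,2,1,1,2,2,0,0,1,2,0,1,0,1,1,2], [1,0,1,0,1,0,0,2,0,2,2,1,0,1,2,1,2,0,2], [0,0,1,1,1,1,1,0,2,2,2,1,2,1,0,2,1,1], [0,0,0,0,1,1,2,0,2,2,0,1,1,0,2,0,1], [0,0,0,1,1,1,1,0,2,1,1,0,2,2,0,2,1], [0,0,0,0,1,1,0,2,1,2,1,1,2,1,1], [0,0,0,0,0,0,0,0,2,0,2,1,2], [0,0,0,0,0,0,2,1,2,0,1]],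
  [[0,0,0,2,0,2,1,2,0,1,1,1,2], [0,0,0,0,2,2,1,2,2,0,0,0,2], [0,2,0,1,2,2,2,0,1,0,0,2,1], [1,2,2,1,0,2,2,2,1,2,0,0,0,1,0,2], [2,2,2,1,0,2,2,2,1,0,2,0,1,1,2], [2,2,2,1,1,1,0,2,0,0,1,2,0,0,2,0,1,2], [2,0,0,0,2,0,0,1,1,1,2,2,2,0,1,2,0,2], [0,1,1,2,0,1,1,0,0,1,1,2,1,2,2,1], [0,0,0,2,2,0,1,1,0,1,0,1,1,1,0,0,1], [0,0,0,0,2,0,2,2,0,2,1,0,2,0,0,1], [0,0,0,0,1,1,1,0,0,2,2,2,0,1], [0,0,0,0,0,1,0,1,0,0,1,2], [0,0,0,0,0,0,2,2,2]],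
  [[0,0,0,0,1,1,0,1,1,1,2,2], [0,0,0,2,2,2,0,2,2,2,2], [0,2,2,1,1,1,2,0,2,1,0,1], [2,1,2,0,1,0,0,0,1,2,1], [2,0,1,1,2,1,0,2,0,2,1,2,0,1,1,2], [1,0,0,2,1,2,0,2,0,2,1,1,1,0,2,1,1], [0,1,2,0,0,0,2,0,0,0,0,1,1,1,0,2,1], [0,0,2,0,1,2,1,1,0,2,0,2,0,2,2], [0,0,1,2,2,1,1,2,2,1,2,2,1,2,2,1], [0,0,0,2,1,0,2,2,2,0,0,1,1,1,1], [0,0,0,0,0,0,1,2,1,2,2], [0,0,0,0,0,2,0,2,1,0,1]],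
  [[0,0,0,1,0,2,0,2,1,2,1], [0,0,2,2,1,2,2,1,2], [0,2,2,1,1,2,0,2,2,1,0,0,1], [2,1,1,0,0,0,1,0,1,1,1,2,1,2], [2,1,2,2,1,1,0,0,0,1,0,2,0,2], [0,0,0,2,2,1,0,1,2,2,1,1,0,0,0,1], [2,0,1,2,2,1,0,2,1,1,2,2,1,1,2,1], [0,2,2,2,1,2,2,2,2,1,2,1,0,2,1,2], [0,0,1,1,2,2,2,2,0,2,0,1,1,2,2], [0,0,0,0,1,0,2,1,2,2,2,1,1,2], [0,0,0,0,0,0,2,0,2,1,1,1], [0,0,0,0,0,2,0,1,0,1]],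
  [[0,0,0,2,0,1,0,2,1], [0,0,0,0,2,1,2,2,0,2], [0,0,2,0,2,2,2,1,1,1,2], [0,2,2,1,1,0,0,2,0,1,2,2,1], [1,1,2,0,0,0,2,2,0,1,1,1], [1,2,1,0,1,2,0,1,2,1,1,1,1,1], [1,0,2,0,0,1,1,0,0,0,0,0,2,1], [0,0,2,1,0,1,2,2,0,2,2,0,2,0,1], [0,0,0,0,2,0,2,2,2,2,1,1,0,1], [0,0,0,1,0,0,1,2,2,0,0,2,1], [0,0,0,0,1,1,1,0,1], [0,0,0,0,0,2,1,2]],
  [[0,0,0,2,1,2,0,1], [0,0,0,1,0,0,1,0,1], [0,1,0,1,0,1,1,0,1,2,1], [1,2,0,0,2,2,2,2,1,2,1], [0,2,1,1,1,2,1,1,1,1,1,2,1], [2,1,1,2,1,1,1,1,0,1,1,2,1], [0,1,2,1,2,0,2,0,0,2,2,1,1,2], [0,0,2,0,0,1,2,1,1,1,1,2,2,1], [0,0,0,1,0,1,2,0,2,2,2,2,1], [0,0,0,1,1,1,0,1,1,2], [0,0,0,0,0,0,2,1,1,1]],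
  [[0,0,0,2,2,2], [0,0,1,1,0,1,0,2,1], [0,0,1,0,0,2,0,1,2,2], [0,0,2,2,1,2,2,2,2], [0,2,2,1,2,1,1,0,0,2,2,2], [0,1,0,0,2,0,2,1,0,1,2,1,1], [1,2,2,0,1,0,1,2,1,2,1,2], [0,2,0,0,1,2,0,1,0,1,2,2,1], [0,0,0,2,0,2,0,2,1,0,0,2], [0,0,0,1,2,2,1,2,2,0,1], [0,0,0,0,0,2,2,2]],
  [[], [0,0,2], [0,2,1,0,2,0,1,2,1], [1,0,0,0,2,1,2,1], [1,0,0,0,0,2,1,2,0,2], [2,1,0,1,2,0,1,0,0,0,1,2], [2,2,1,2,0,0,1,1,0,1,2,1], [0,2,2,1,2,2,2,1,0,1,0,1], [0,0,2,2,2,2,2,2,2,2], [0,0,0,1,0,2,1,2,2,1], [0,0,0,0,0,2]],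
  [[], [0,0,1,1,2,2], [0,2,2,2,2,0,2,1], [1,2,1,0,2,1,2,1,2], [0,2,1,0,1,2,1,1,2,1], [0,2,2,1,0,1,2,2,0,0,1], [0,0,2,1,2,0,2,1,1,2], [0,0,1,0,0,1,1,1,0,0,1], [0,0,1,0,0,1,1,0,2,1], [0,0,0,0,2,2,2,2]],
  [[], [0,0,2,1], [0,1,2,2], [2,2,1,1,1,0,2], [1,1,0,2,0,2,0,0,1], [2,2,1,1,0,1,1,2,2,1], [2,1,1,1,1,1,1,2,0,1], [0,0,2,2,2,1,2,2,1,1], [0,0,1,2,2,0,1,1,1], [0,0,0,0,1,1]],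
  [[], [], [0,2,0,2,1], [1,0,2,0,0,2,1], [2,1,1,2,0,1,2], [0,0,2,2,2,0,0,0,1], [1,0,2,1,2,2,0,1], [0,2,0,2,0,2,1,2], [0,0,1,1,2,2,2]],
  [[], [], [0,1,2], [2,2,1,2,2], [0,2,0,0,1,2,1], [2,0,2,0,0,1,2,2], [0,0,1,2,1,0,2], [0,0,1,0,1,1,1,2], [0,0,0,1,1,1]],
  [[], [], [], [2,2], [1,0,0,2,1], [2,2,0,1,1], [0,2,2,0,0,1,2], [0,0,0,1,1,0,2]],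
  [[], [], [], [], [1,1,1], [2,0,0,1], [0,1,0,0,2], [0,0,2,1,1,2]]]

def h2L : List (List (List ℕ)) :=
  [[[0,0,0,0,0,0,0,0,0,0,0,2,2,2,1,1,1], [0,0,0,0,0,0,0,0,0,1,1,1,2,0,0,1,2,2,2], [0,0,0,0,0,0,0,0,0,0,0,2,2,2,1,0,0,2,1,1,1], [0,0,0,0,0,0,0,0,2,2,2,1,1,2,2,2,0,1,1,2], [0,0,0,0,0,0,1,1,1,2,0,0,0,1,1,0,0,0,2,1,1,1], [0,0,0,0,0,0,0,0,2,2,2,1,0,0,0,2,2,0,0,0,1,2,2,2], [0,0,0,0,0,0,0,0,0,0,1,2,2,0,1,1,1,1,1,0,2,2,1], [0,0,0,0,0,0,0,0,0,2,2,2,1,0,0,0,2,2,0,0,0,1,2,2,2], [0,0,0,0,0,0,0,0,0,0,0,1,1,1,2,0,0,0,1,1,0,0,0,2,1,1,1], [0,0,0,0,0,0,0,0,0,0,0,0,0,2,1,1,0,2,2,2,1,1,2,2,2], [0,0,0,0,0,0,0,0,0,0,0,0,1,1,1,2,0,0,1,2,2,2], [0,0,0,0,0,0,0,0,0,0,0,0,0,0,2,2,2,1,0,0,2,1,1,1],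 [0,0,0,0,0,0,0,0,0,0,0,0,0,0,0,0,1,1,1,2,2,2]],
  [[0,0,0,0,0,0,0,0,0,0,2,1,0,0,1,2,0,1,1,1], [0,0,0,0,0,0,0,0,2,0,0,0,0,1,2,0,0,2,1,2,0,2], [0,0,0,0,0,0,2,2,0,2,0,0,1,1,1,2,2,0,0,0,1,2,1,1], [0,0,0,0,0,2,1,2,0,2,0,2,2,1,1,1,1,2,2,1,0,2,1,2,2], [0,0,0,0,1,1,2,0,2,2,1,0,1,2,2,0,0,2,2,0,1,0,1,1,2,1], [0,0,0,1,0,1,2,2,2,2,1,0,1,0,2,0,2,2,0,1,2,0,2,2,0,1,1], [0,0,0,0,2,2,0,1,1,2,2,1,0,1,2,1,1,2,1,0,1,2,2,1,1,0,2,2], [0,0,0,0,0,1,1,0,2,2,0,2,1,0,2,2,0,2,0,1,0,1,2,2,2,2,1,0,1], [0,0,0,0,0,0,1,2,1,1,0,1,0,2,2,0,0,2,2,1,0,1,2,2,0,2,1,1], [0,0,0,0,0,0,0,2,2,1,2,0,1,2,2,1,1,1,1,2,2,0,2,0,2,1,2], [0,0,0,0,0,0,0,0,1,1,2,1,0,0,0,2,2,1,1,1,0,0,2,0,2,2], [0,0,0,0,0,0,0,0,0,0,2,0,2,1,2,0,0,2,1,0,0,0,0,2],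 [0,0,0,0,0,0,0,0,0,0,0,0,1,1,1,0,2,1,0,0,1,2]],
  [[0,0,0,0,0,0,0,0,0,2,2,1,1,2,1,0,1,2,1,2], [0,0,0,0,0,0,0,1,2,1,2,0,1,0,0,0,2,2,2,1,2,2], [0,0,0,0,0,0,2,2,0,0,0,2,0,1,1,2,2,1,1,0,2,1,1], [0,0,0,0,2,1,1,0,1,2,1,2,2,1,1,2,0,0,1,2,1,0,1,1,2], [0,0,0,1,2,2,0,2,0,0,2,2,2,2,1,0,0,1,1,2,2,1,0,1,1,2], [0,0,2,2,2,2,2,0,0,0,0,0,2,1,2,1,1,2,2,2,0,1,2,1,2,1], [0,0,0,2,1,2,2,1,2,2,2,2,0,1,1,0,1,1,0,2,2,2,2,1,2,2,1,2], [0,0,0,0,0,1,2,1,2,1,0,2,2,2,1,1,2,1,2,0,0,0,0,0,2,2,2,2,2], [0,0,0,0,0,2,1,1,0,1,2,2,1,1,0,0,1,2,2,2,2,0,0,2,0,2,2,1], [0,0,0,0,0,0,2,1,1,0,1,2,1,0,0,2,1,1,2,2,1,2,1,0,1,1,2], [0,0,0,0,0,0,0,0,1,1,2,0,1,1,2,2,1,1,0,2,0,0,0,2,2], [0,0,0,0,0,0,0,0,0,2,2,1,2,2,2,0,0,0,1,0,2,1,2,1],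 [0,0,0,0,0,0,0,0,0,0,0,2,1,2,1,0,1,2,1,1,2,2]],
  [[0,0,0,0,0,0,0,0,0,0,0,0,2,0,1,0,2,0,1], [0,0,0,0,0,0,0,0,2,0,1,1,1,2,0,1,2,0,0,1,2,2], [0,0,0,0,0,2,1,0,0,0,0,1,0,2,2,0,2,2,2,2,0,2], [0,0,0,0,1,2,1,1,2,1,2,1,2,1,2,0,1,1,0,0,2,1,2,2,2], [0,0,1,2,0,1,2,2,1,0,2,1,0,1,2,1,2,1,2,1,2,1,2,0,1,2], [0,2,2,1,1,1,2,2,0,2,0,0,1,0,1,2,1,2,1,1,1,0,2,2], [0,0,2,2,2,0,2,2,2,1,2,0,0,0,0,0,0,0,0,2,1,2,2,2,0,2,2,2], [0,0,0,0,0,0,2,2,0,1,1,1,2,1,2,1,0,1,0,0,2,0,2,2,1,1,1,2,2], [0,0,0,0,2,1,0,2,1,2,1,2,1,2,1,2,1,0,1,2,0,1,2,2,1,0,2,1], [0,0,0,0,0,2,2,2,1,2,0,0,1,1,0,2,1,2,1,2,1,2,1,1,2,1], [0,0,0,0,0,0,0,0,2,0,2,2,2,2,0,2,2,0,1,0,0,0,0,1,2], [0,0,0,0,0,0,0,0,2,2,1,0,0,2,1,0,2,1,1,1,0,2],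 [0,0,0,0,0,0,0,0,0,0,0,1,0,2,0,1,0,2]],
  [[0,0,0,0,0,0,0,0,1,2,2,1,0,0,2,0,1,1,1,1], [0,0,0,0,0,0,2,0,0,0,1,1,0,0,1,0,0,0,2,2,2,1], [0,0,0,0,0,1,1,0,1,0,1,0,2,2,2,0,0,1,0,0,0,0,2,2], [0,0,0,1,1,1,0,2,0,2,1,2,0,2,0,2,0,0,2,2,2,0,1], [0,0,2,1,1,2,0,2,2,2,1,1,2,2,0,2,2,0,1,2,1,0,1,1,1,1], [1,0,2,2,1,1,2,1,0,0,2,0,1,0,1,0,2,1,2,0,0,1,1,2,0,2,2], [0,0,0,0,2,1,2,0,2,0,1,2,2,2,2,2,2,2,1,0,2,0,2,1,2], [0,0,2,2,0,2,1,1,0,0,2,1,2,0,1,0,1,0,2,0,0,1,2,1,1,2,2,0,1], [0,0,0,1,1,1,1,0,1,2,1,0,2,2,0,2,2,1,1,2,2,2,0,2,1,1,2], [0,0,0,0,0,0,1,0,2,2,2,0,0,2,0,2,0,2,1,2,0,2,0,1,1,1], [0,0,0,0,0,2,2,0,0,0,0,1,0,0,2,2,2,0,1,0,1,0,1,1], [0,0,0,0,0,0,0,1,2,2,2,0,0,0,1,0,0,1,1,0,0,0,2],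 [0,0,0,0,0,0,0,0,0,1,1,1,1,0,2,0,0,1,2,2,1]],
  [[0,0,0,0,0,0,0,0,1,1,0,1,2,2,0,1,0,2,1,2], [0,0,0,0,0,0,2,2,1,2,1,0,2,0,0,1,2,0,1,1,1,1], [0,0,0,0,1,0,1,0,0,1,2,1,2,2,1,0,0,2,2,2,0,1,2], [0,0,0,1,1,0,1,2,2,1,1,2,1,0,1,2,2,1,1,0,1,0,0,2], [0,0,1,0,2,2,0,2,2,2,1,0,0,1,2,2,2,1,2,0,1,2,2,1,2], [1,2,2,0,2,2,1,1,2,2,0,1,2,1,1,0,2,0,2,2,2,0,2,1,0,2], [0,2,2,1,0,2,0,2,1,1,1,1,0,2,2,0,1,1,1,1,2,0,2,0,1,2,2], [0,0,2,0,1,2,0,2,2,2,0,2,0,1,1,2,1,0,2,2,1,1,2,2,0,2,2,1], [0,0,0,2,1,2,2,1,0,2,1,2,2,2,1,0,0,1,2,2,2,0,2,2,0,1], [0,0,0,0,2,0,0,1,0,1,1,2,2,1,0,1,2,1,1,2,2,1,0,1,1], [0,0,0,0,0,2,1,0,2,2,2,0,0,1,2,2,1,2,1,0,0,1,0,1], [0,0,0,0,0,0,1,1,1,1,0,2,1,0,0,2,0,1,2,1,2,2],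 [0,0,0,0,0,0,0,0,2,1,2,0,1,0,2,2,1,0,1,1]],
  [[0,0,0,0,0,0,0,0,1,2,1,2,0,1,2,2,2,0,1], [0,0,0,0,0,0,1,2,2,2,2,1,2,2,2,2,2,0,2,1,1,1], [0,0,0,0,0,1,2,1,2,1,1,0,2,1,2,1,2,0,0,2,0,1], [0,0,2,0,1,0,2,2,1,2,2,0,1,0,2,2,0,2,1,0,1,2,1,2], [0,1,2,2,1,2,2,0,2,0,2,1,2,1,1,1,0,2,1,0,2,1,2,1,1], [1,1,0,0,0,1,0,2,1,0,0,1,0,0,2,2,2,2,0,2,1,0,1,0,2], [2,0,1,0,0,2,1,0,1,1,0,0,2,1,2,0,0,1,1,0,1,2,0,0,1,0,2], [0,0,2,0,1,0,1,2,0,2,2,2,2,0,0,1,0,0,1,2,0,1,0,0,0,1,1], [0,0,1,1,2,1,2,0,1,2,0,1,1,1,2,1,2,0,2,0,2,2,1,2,2,1], [0,0,0,2,1,2,1,0,1,2,0,2,2,0,1,0,2,2,1,2,2,0,1,0,2], [0,0,0,0,0,1,0,2,0,0,2,1,2,1,2,0,1,1,2,1,2,1], [0,0,0,0,0,1,1,1,2,0,2,2,2,2,2,1,2,2,2,2,1], [0,0,0,0,0,0,0,0,1,0,2,2,2,1,0,2,1,2,1]],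
  [[0,0,0,0,0,0,0,0,0,0,2,1,1,1,1,0,1,1,1,1], [0,0,0,0,0,0,1,1,0,2,2,2,1,1,2,2,2,0,1,2,1], [0,0,0,0,1,0,2,0,2,0,0,2,2,0,2,2,1,1,1,1,2,1], [0,0,2,0,0,2,0,1,1,1,2,2,0,2,2,0,1,2,2,2,2,0,1], [0,1,2,0,2,2,2,1,1,2,0,0,1,0,2,2,2,0,0,2,2,1,1,1], [0,2,2,1,0,0,1,2,2,2,2,1,2,0,2,2,1,1,0,1,0,0,2,0,1], [0,1,1,2,0,2,1,2,2,1,2,2,2,2,2,2,1,2,2,1,2,0,2,1,1], [0,1,0,2,0,0,1,0,1,1,2,2,0,2,1,2,2,2,2,1,0,0,1,2,2], [0,0,1,1,1,2,2,0,0,2,2,2,0,1,0,0,2,1,1,2,2,2,0,2,1], [0,0,0,1,0,2,2,2,2,1,0,2,2,0,2,2,1,1,1,0,2,0,0,2], [0,0,0,0,1,2,1,1,1,1,2,2,0,2,2,0,0,2,0,2,0,1], [0,0,0,0,0,1,2,1,0,2,2,2,1,1,2,2,2,0,1,1], [0,0,0,0,0,0,1,1,1,1,0,1,1,1,1,2]],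
  [[0,0,0,0,0,0,0,0,0,0,2,0,0,1,0,1,0,2,1,2], [0,0,0,0,0,0,0,0,1,1,1,1,0,1,1,0,1,0,0,1], [0,0,0,0,0,0,2,0,1,0,1,0,1,0,2,1,2,2,0,1,1,1], [0,0,0,1,2,2,0,2,1,1,0,2,1,1,2,2,0,1,1,0,2,0,2], [0,0,0,2,1,0,2,0,0,1,1,2,0,2,0,2,0,2,0,2,0,0,2], [2,0,2,2,0,0,2,2,2,1,0,1,0,1,1,2,2,1,0,2,0,1,1,0,1], [0,2,1,2,0,1,2,0,0,0,1,2,0,2,1,0,0,0,2,1,0,2,1,2], [1,0,1,1,0,2,0,1,2,2,1,1,0,1,0,1,2,2,2,0,0,2,2,0,2], [0,0,2,0,0,2,0,2,0,2,0,2,0,2,1,1,0,0,2,0,1,2], [0,0,2,0,2,0,1,1,0,2,2,1,1,2,0,1,1,2,0,2,2,1], [0,0,0,1,1,1,0,2,2,1,2,0,1,0,1,0,1,0,2], [0,0,0,0,0,1,0,0,1,0,1,1,0,1,1,1,1], [0,0,0,0,0,2,1,2,0,1,0,1,0,0,2]],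
  [[0,0,0,0,0,0,0,0,2,2,2,1,0,2,1,1,1,0,1], [0,0,0,0,0,0,2,0,0,1,0,0,2,0,0,0,2,1,2,1], [0,0,0,0,1,1,0,0,0,2,1,0,0,1,1,0,1,0,0,1,2], [0,0,2,2,2,2,2,2,0,2,0,2,2,0,0,1,2,2,2,1,1,1], [0,2,2,1,1,2,1,1,0,2,2,2,0,1,1,2,1,1,1,2,2,2,1], [2,0,2,0,0,0,1,1,0,1,1,0,2,0,2,1,0,0,1,1,0,0,1,2], [1,1,1,2,0,2,0,2,1,1,2,2,2,2,1,1,2,0,2,0,2,1,1,1], [2,1,0,0,1,1,0,0,1,2,0,2,0,1,1,0,1,1,0,0,0,2,0,2], [0,1,2,2,2,1,1,1,2,1,1,0,2,2,2,0,1,1,2,1,1,2,2], [0,0,1,1,1,2,2,2,1,0,0,2,2,0,2,0,2,2,2,2,2,2], [0,0,0,2,1,0,0,1,0,1,1,0,0,1,2,0,0,0,1,1], [0,0,0,0,1,2,1,2,0,0,0,2,0,0,1,0,0,2], [0,0,0,0,0,1,0,1,1,1,2,0,1,2,2,2]],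
  [[0,0,0,0,0,0,0,0,1,0,0,2,1,1,0,1,1], [0,0,0,0,0,0,2,1,2,2,0,1,1,1,1,1,1,1,2], [0,0,0,0,1,1,1,1,1,0,0,0,1,2,1,1,2,1,2,2], [0,0,1,2,0,2,1,0,2,1,1,0,1,2,2,0,0,1,1,1], [0,1,0,1,1,1,1,0,2,1,1,1,0,1,2,1,1,2,0,1,2,2], [2,1,0,0,1,0,0,1,2,1,0,0,1,2,2,0,0,2,1,2,0,0,2], [0,1,2,1,0,2,2,1,2,0,1,1,1,0,2,1,2,2,0,1,2,1], [2,0,0,2,1,2,0,0,2,2,1,0,0,1,2,1,0,0,1,0,0,1,2], [0,2,2,1,0,2,1,1,2,1,0,1,1,1,2,0,1,1,1,1,0,1], [0,0,0,1,1,1,0,0,2,2,1,0,1,1,2,0,1,2,0,2,1], [0,0,0,2,2,1,2,1,1,2,1,0,0,0,1,1,1,1,1], [0,0,0,0,2,1,1,1,1,1,1,1,0,2,2,1,2], [0,0,0,0,0,0,1,1,0,1,1,2,0,0,1]],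
  [[0,0,0,0,0,0,0,0,0,1,0,2,2,2,2,1,2], [0,0,0,0,0,0,0,0,2,2,1,1,2,2,2,2,1,1], [0,0,0,0,0,0,2,0,1,1,0,0,1,0,1,2,2,1], [0,0,2,0,0,2,0,0,1,0,2,0,2,0,1,1,0,0,0,1], [0,1,2,2,1,0,1,2,0,2,2,1,1,0,2,1,2,1,2,0,2], [2,1,0,1,1,1,1,2,2,0,2,0,1,0,1,0,0,1,2,1,2,2], [1,1,2,2,1,0,2,2,2,0,2,2,0,2,2,2,0,1,2,2,1,1], [2,2,1,2,1,0,0,1,0,1,0,2,0,2,2,1,1,1,1,0,1,2], [0,2,0,2,1,2,1,2,0,1,1,2,2,0,2,1,0,1,2,2,1], [0,0,1,0,0,0,1,1,0,2,0,2,0,1,0,0,2,0,0,2], [0,0,0,0,1,2,2,1,0,1,0,0,1,1,0,2], [0,0,0,0,1,1,2,2,2,2,1,1,2,2], [0,0,0,0,0,2,1,2,2,2,2,0,1]],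
  [[0,0,0,0,0,0,0,0,0,0,2,0,0,1,1,2], [0,0,0,0,0,0,2,1,1,0,2,0,0,2,1,2,1], [0,0,0,0,2,1,1,1,2,2,0,2,0,0,0,2,1,2], [0,0,2,1,2,2,2,1,0,1,2,0,1,0,0,0,0,1,1], [0,2,2,0,2,1,1,0,1,1,0,1,1,0,0,2,2,1,0,2], [2,0,2,2,1,0,0,2,1,1,1,1,0,0,1,0,0,2,1,2,1], [0,0,2,1,1,0,1,2,0,1,1,1,0,2,1,0,1,1,2], [1,2,1,2,0,0,1,0,0,1,1,1,1,2,0,0,1,2,2,0,2], [0,2,0,1,2,2,0,0,1,1,0,1,1,0,1,1,2,0,2,2], [0,0,1,1,0,0,0,0,1,0,2,1,0,1,2,2,2,1,2], [0,0,0,2,1,2,0,0,0,2,0,2,2,1,1,1,2], [0,0,0,0,1,2,1,2,0,0,2,0,1,1,2], [0,0,0,0,0,2,1,1,0,0,2]],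
  [[0,0,0,0,0,0,0,0,2,1,0,2,1,1,2], [0,0,0,0,0,0,1,0,0,0,2,0,1], [0,0,0,0,1,1,0,1,2,0,0,0,1,1,0,1,1], [0,0,2,1,0,1,1,1,1,0,2,2,2,0,1,1,1,1], [0,1,0,0,2,1,2,0,1,1,0,1,2,2], [2,2,0,1,0,1,2,1,0,0,1,0,0,1,0,1,0,2,2,2], [2,0,0,0,1,1,0,2,1,1,1,1,2,0,1,1,0,0,0,2], [2,2,2,0,1,0,1,0,0,1,0,0,1,2,1,0,1,0,2,2], [0,0,0,0,0,0,2,2,1,0,1,1,0,2,1,2,0,0,1], [0,0,1,1,1,1,0,2,2,2,0,1,1,1,1,0,1,2], [0,0,0,1,1,0,1,1,0,0,0,2,1,0,1,1], [0,0,0,0,0,0,0,1,0,2,0,0,0,1], [0,0,0,0,0,2,1,1,2,0,1,2]],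
  [[0,0,0,0,0,0,0,0,2,2,2,2,1,2], [0,0,0,0,0,0,1,1,2,1,2,1,1], [0,0,0,0,1,1,0,0,0,0,1,1,0,0,1,1], [0,0,1,0,0,0,2,1,0,1,1,2,0,0,1,0,1], [0,1,1,2,2,2,2,0,1,1,0,2,2,0,0,2,1,1], [1,0,1,0,1,2,2,0,1,1,2,1,2,2,2,0,0,2], [0,0,0,1,1,0,2,2,0,1,0,2,2,0,1,1], [0,2,0,0,2,2,2,1,2,1,1,0,2,2,1,0,1,0,1], [0,1,1,2,0,0,2,2,0,1,1,0,2,2,2,2,1,1], [0,0,1,0,1,0,0,2,1,1,0,1,2,0,0,0,1], [0,0,0,1,1,0,0,1,1,0,0,0,0,1,1], [0,0,0,0,0,0,1,1,2,1,2,1,1], [0,0,0,0,0,2,1,2,2,2,2]],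
  [[0,0,0,0,0,0,0,0,2,1,1,1,2], [0,0,0,0,0,0,2,1,1,1,1,0,2], [0,0,0,0,0,2,1,2,1,1,2,0,2], [0,0,1,0,0,2,0,0,0,2,2,0,0,0,0,2], [0,0,2,0,1,2,2,1,2,1,1,0,2,0,0,2], [0,0,2,2,0,1,0,2,1,1,2,1,0,2,1,1], [1,2,2,0,0,2,0,0,1,1,0,0,2,0,0,2,2,1], [0,0,1,1,2,0,1,2,1,1,2,0,1,0,2,2], [0,0,2,0,0,2,0,1,1,2,1,2,2,1,0,2], [0,0,2,0,0,0,0,2,2,0,0,0,2,0,0,1], [0,0,0,0,0,2,0,2,1,1,2,1,2], [0,0,0,0,0,2,0,1,1,1,1,2], [0,0,0,0,0,2,1,1,1,2]],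
  [[0,0,0,0,0,0,0,0,0,0,0,2], [0,0,0,0,0,0,2,2,0,1,1,2], [0,0,0,0,2,0,1,0,1,0,1,1,2], [0,0,2,1,0,1,0,1,2,1,1,1,1,2], [0,2,1,0,1,1,0,0,2,1,1,2,2,2,2,1], [0,2,2,0,2,1,2,0,0,1,1,2,1,0,0,2,2], [1,0,1,2,1,1,2,1,1,1,2,1,1,2,1,0,1], [2,2,0,0,1,2,1,1,0,0,2,1,2,0,2,2], [0,1,2,2,2,2,1,1,2,0,0,1,1,0,1,2], [0,0,0,2,1,1,1,1,2,1,0,1,0,1,2], [0,0,0,0,2,1,1,0,1,0,1,0,2], [0,0,0,0,0,2,1,1,0,2,2], [0,0,0,0,0,2]],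
  [[], [0,0,0,0,0,0,0,0,2,2,2], [0,0,0,0,0,0,1,0,2,1,2,2,2], [0,0,0,2,1,1,0,0,1,1,2,1,0,1], [0,1,1,2,2,0,2,1,2,2,0,1,1,1], [0,1,0,0,0,0,1,0,2,1,0,2,1,2,2,2], [2,0,0,0,1,2,0,2,2,0,2,1,0,0,0,2], [2,2,2,1,2,0,1,2,0,1,0,0,0,0,1], [0,0,1,1,1,0,2,2,1,2,0,2,2,1,1], [0,0,1,0,1,2,1,1,0,0,1,1,2], [0,0,0,2,2,2,1,2,0,1], [0,0,0,0,0,2,2,2]],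
  [[0,0,0,0,0,0,0,0,1,1], [0,0,0,0,0,0,1,0,0,1,2], [0,0,0,0,2,2,0,0,0,0,2,1], [0,0,1,1,1,1,1,0,2,0,2,2,2], [0,1,1,2,2,1,2,2,0,0,1,1,1,2], [1,0,1,0,0,1,2,0,0,0,2,0,0,2,1], [2,2,2,1,0,2,1,2,1,2,0,1,2,2,2], [1,2,0,0,2,0,0,0,2,1,0,0,1,0,1], [0,2,1,1,1,0,0,2,2,1,2,2,1,1], [0,0,2,2,2,0,2,0,1,1,1,1,1], [0,0,0,1,2,0,0,0,0,2,2], [0,0,0,0,2,1,0,0,1], [0,0,0,0,0,1,1]],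
  [[0,0,0,0,0,0,0,0,2], [0,0,0,0,0,0,1,2,2,1], [0,0,0,0,2,2,0,0,2,1,1], [0,0,2,1,0,2,1,0,1,2,2], [0,2,0,2,1,1,1,1,2,0,2,1,1], [1,2,0,2,2,0,1,0,1,2,1,0,0,1], [0,2,1,2,1,0,0,0,0,1,2,1,2], [1,0,0,1,2,1,0,1,0,2,2,0,2,1], [0,1,1,2,0,2,1,1,1,1,2,0,2], [0,0,0,2,2,1,0,1,2,0,1,2], [0,0,0,1,1,2,0,0,2,2], [0,0,0,0,1,2,2,1], [0,0,0,0,0,2]],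
  [[], [0,0,0,0,0,0,0,2,2], [0,0,0,0,0,0,2,1,2], [0,0,1,0,1,0,2,2,0,0,2], [0,2,1,0,0,1,0,0,2,1,0,1], [1,2,1,0,0,1,0,0,2,1,2,1,1], [2,2,1,2,1,2,2,2,1,2,1,2,2], [1,1,2,1,2,0,0,1,0,0,1,2,1], [0,1,0,1,2,0,0,1,0,0,1,2], [0,0,2,0,0,2,2,0,1,0,1], [0,0,0,0,2,1,2], [0,0,0,0,2,2]],
  [[], [0,0,0,0,0,0,1,2], [0,0,0,0,1,0,1,2,1], [0,0,1,2,0,2,0,0,2,2], [0,1,0,1,1,1,1,2,2,0,1], [1,1,2,0,1,0,1,0,1,2,1,2], [0,0,2,0,0,1,1,0,0,2], [2,1,2,1,0,1,0,1,0,2,1,1], [0,1,0,2,2,1,1,1,1,0,1], [0,0,2,2,0,0,2,0,2,1], [0,0,0,1,2,1,0,1], [0,0,0,0,2,1]],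
  [[], [], [0,0,0,0,2,1,2,2], [0,0,1,1,2,1,2,2,2], [0,2,1,2,0,0,2,2], [0,1,1,0,2,2,2,1,2,1,1], [1,0,0,0,0,2,0,0,0,0,1], [1,1,2,1,2,2,2,0,1,1], [0,0,0,2,2,0,0,2,1,2], [0,0,2,2,2,1,2,1,1], [0,0,0,2,2,1,2]],
  [[], [], [0,0,0,0,1,2,2], [0,0,2,2,2,0,0,2], [0,2,1,1,2,2,2,2,2], [1,1,0,0,0,0,0,1,1], [0,1,1,1,2,2,1,1,1], [0,1,1,0,0,0,0,0,1,1], [0,2,2,2,2,2,1,1,2], [0,0,2,0,0,2,2,2], [0,0,0,2,2,1]],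
  [[], [], [], [0,0,0,0,2,1,1], [0,2,2,1,1,2], [2,2,1,1,0,2], [0,1,0,0,0,0,0,1], [0,0,0,2,0,1,1,2,2], [0,0,0,2,1,1,2,2], [0,0,1,1,2]],
  [[], [], [], [0,0,2,2], [0,0,0,0,0,0,2], [0,2,2,2,1,0,0,1], [2,2,1,2,2,1,2,2], [1,0,0,1,2,2,2], [0,2], [0,0,0,0,2,2]],
  [[], [], [], [], [0,2,2,2], [1,2,1,1,0,1], [1,1,2,1,2,1,1], [0,1,0,1,1,2,1], [0,0,0,2,2,2]]]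

open Ex

/-- the quadratic `c₀ + c₁ B + c₂ B ^ 2` -/
def quad (c₀ c₁ c₂ : List (List (List ℕ))) : Ex := hor 3 [p3 0 1 2 c₀, p3 0 1 2 c₁, p3 0 1 2 c₂]

def qa : Ex := quad qa0L qa1L qa2L
def qc : Ex := quad qc0L qc1L qc2L
def qd : Ex := quad qd0L qd1L qd2L
def qe : Ex := quad qe0L qe1L qe2L

/-- the resultant `u ^ 2 - v x` of two quadratics (`-1 = 2`) -/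
def res2 (a₀ a₁ a₂ b₀ b₁ b₂ : Ex) : Ex :=
  (a₂ * b₀ + nat 2 * (a₀ * b₂)) * (a₂ * b₀ + nat 2 * (a₀ * b₂)) +
    nat 2 * ((a₂ * b₁ + nat 2 * (a₁ * b₂)) * (a₁ * b₀ + nat 2 * (a₀ * b₁)))

def k1 : Ex := res2 (p3 0 1 2 qa0L) (p3 0 1 2 qa1L) (p3 0 1 2 qa2L) (p3 0 1 2 qc0L) (p3 0 1 2 qc1L) (p3 0 1 2 qc2L)
def k2 : Ex := res2 (p3 0 1 2 qd0L) (p3 0 1 2 qd1L) (p3 0 1 2 qd2L) (p3 0 1 2 qe0L) (p3 0 1 2 qe1L) (p3 0 1 2 qe2L)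

/-- `H₁(μ, P, Q)`, of degree 12, 28, 28; the outer variable of the list is `Q` -/
def h1 : Ex := p3 2 0 1 h1L
/-- `H₂(μ, P, Q)`, of degree 12, 28, 26; the outer variable of the list is `Q` -/
def h2 : Ex := p3 2 0 1 h2L

end CL.TB
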